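import Mathlib.Topology.Spectral.ConstructibleTopology
import Mathlib.Topology.Constructible
import Mathlib.Topology.NoetherianSpace

/-!
# Spectral spaces and the constructible topology
-/

set_option autoImplicit false
universe u v

open Topology TopologicalSpace Set

namespace Groth.Agent.Spectral

variable {X : Type u} {Y : Type v} [tX : TopologicalSpace X] [tY : TopologicalSpace Y]

theorem isClopen_con_of_isOpen_isCompact {U : Set X} (hU : IsOpen U) (hc : IsCompact U) :
    @IsClopen X (constructibleTopology X) U := by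
  refine ⟨@IsClosed.mk _ (constructibleTopology X) _ ?_, hc.isOpen_constructibleTopology_of_isOpen hU⟩
  exact IsCompact.isOpen_constructibleTopology_of_isClosed (by rwa [compl_compl]) hU.isClosed_compl

theorem con_le [PrespectralSpace X] : constructibleTopology X ≤ tX := by
  conv_rhs => rw [(PrespectralSpace.isTopologicalBasis (X := X)).eq_generateFrom]
  exact le_generateFrom fun U hU =>
    hU.2.isOpen_constructibleTopology_of_isOpen hU.1

theorem isOpen_con_of_isOpen [PrespectralSpace X] {U : Set X} (hU : IsOpen U) :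
    IsOpen[constructibleTopology X] U :=
  con_le U hU

theorem isClosed_con_of_isClosed [PrespectralSpace X] {U : Set X} (hU : IsClosed U) :
    IsClosed[constructibleTopology X] U :=
  @IsClosed.mk _ (constructibleTopology X) _ (con_le _ hU.isOpen_compl)

/-- The tautological map from `X` with the constructible topology to `X`. -/
abbrev ofCon : WithConstructibleTopology X → X := WithTopology.ofTopology

theorem ofCon_surjective : Function.Surjective (ofCon (X := X)) :=
  WithTopology.ofTopology_surjective _

theorem isClosed_preimage_ofCon {s : Set X} :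
    IsClosed (ofCon ⁻¹' s) ↔ IsClosed[constructibleTopology X] s :=
  WithConstructibleTopology.isClosed_iff

theorem isOpen_preimage_ofCon {s : Set X} :
    IsOpen (ofCon ⁻¹' s) ↔ IsOpen[constructibleTopology X] s :=
  WithConstructibleTopology.isOpen_iff

theorem continuous_ofCon [PrespectralSpace X] : Continuous (ofCon (X := X)) :=
  @Continuous.comp (WithConstructibleTopology X) X X _ (constructibleTopology X) tX _ id
    (continuous_id_of_le con_le) (WithTopology.continuous_ofTopology _)

theorem isClopen_preimage_ofCon {U : Set X} (hU : IsOpen U) (hc : IsCompact U) :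
    IsClopen (ofCon ⁻¹' U) :=
  ⟨isClosed_preimage_ofCon.2 (isClopen_con_of_isOpen_isCompact hU hc).1,
    isOpen_preimage_ofCon.2 (isClopen_con_of_isOpen_isCompact hU hc).2⟩

theorem compactSpace_con [CompactSpace X] [QuasiSober X] [PrespectralSpace X]
    [QuasiSeparatedSpace X] : @CompactSpace X (constructibleTopology X) :=
  @CompactSpace.mk X (constructibleTopology X) (by
    have := @isCompact_range (WithConstructibleTopology X) X _ (constructibleTopology X) _
      WithTopology.ofTopology (WithTopology.continuous_ofTopology _)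
    rwa [(WithTopology.ofTopology_surjective (constructibleTopology X)).range_eq] at this)

theorem t2_con [T0Space X] [PrespectralSpace X] : @T2Space X (constructibleTopology X) := by
  refine @T2Space.mk X (constructibleTopology X) fun x y hxy => ?_
  obtain ⟨U, hU, h⟩ : ∃ U, (IsOpen U ∧ IsCompact U) ∧ (x ∈ U ∧ y ∉ U ∨ y ∈ U ∧ x ∉ U) := by
    by_contra! H
    exact hxy ((PrespectralSpace.isTopologicalBasis (X := X)).eq_iff.2 fun U hU =>
      ⟨fun hx => by_contra fun hy => ((H U hU).1 hx) |> hy, fun hy => by_contra fun hx =>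
        ((H U hU).2 hy) |> hx⟩)
  obtain ⟨hcl, hop⟩ := isClopen_con_of_isOpen_isCompact hU.1 hU.2
  rcases h with ⟨hx, hy⟩ | ⟨hy, hx⟩
  · exact ⟨U, Uᶜ, hop, @IsClosed.isOpen_compl X (constructibleTopology X) U hcl, hx, hy,
      disjoint_compl_right⟩
  · exact ⟨Uᶜ, U, @IsClosed.isOpen_compl X (constructibleTopology X) U hcl, hop, hx, hy,
      disjoint_compl_left⟩

theorem totallySeparated_con [T0Space X] [PrespectralSpace X] :
    @TotallySeparatedSpace X (constructibleTopology X) := by
  refine (@totallySeparatedSpace_iff_exists_isClopen X (constructibleTopology X)).2 fun x y hxy => ?_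
  obtain ⟨U, hU, h⟩ : ∃ U, (IsOpen U ∧ IsCompact U) ∧ (x ∈ U ∧ y ∉ U ∨ y ∈ U ∧ x ∉ U) := by
    by_contra! H
    exact hxy ((PrespectralSpace.isTopologicalBasis (X := X)).eq_iff.2 fun U hU =>
      ⟨fun hx => by_contra fun hy => ((H U hU).1 hx) |> hy, fun hy => by_contra fun hx =>
        ((H U hU).2 hy) |> hx⟩)
  have hcl := isClopen_con_of_isOpen_isCompact hU.1 hU.2
  rcases h with ⟨hx, hy⟩ | ⟨hy, hx⟩
  · exact ⟨U, hcl, hx, hy⟩
  · exact ⟨Uᶜ, @IsClopen.compl X (constructibleTopology X) U hcl, hx, fun h => h hy⟩

theorem isClopen_con_of_isConstructible [CompactSpace X] {s : Set X} (hs : IsConstructible s) :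
    @IsClopen X (constructibleTopology X) s := by
  induction hs using IsConstructible.empty_union_induction with
  | open_retrocompact U hUo hUr => exact isClopen_con_of_isOpen_isCompact hUo hUr.isCompact
  | union s hs t ht ihs iht => exact @IsClopen.union X (constructibleTopology X) s t ihs iht
  | compl s hs ih => exact @IsClopen.compl X (constructibleTopology X) s ih

theorem isCompact_of_isClosed_con [CompactSpace X] [QuasiSober X] [PrespectralSpace X]
    [QuasiSeparatedSpace X] {s : Set X} (hs : IsClosed[constructibleTopology X] s) :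
    IsCompact s := by
  have h := @IsClosed.isCompact X (constructibleTopology X) s compactSpace_con hs
  have := @IsCompact.image X X (constructibleTopology X) tX s id h
    (continuous_id_of_le con_le)
  simpa using this

/-- A clopen set of the constructible topology is constructible. -/
theorem isConstructible_of_isClopen_con [CompactSpace X] [QuasiSober X] [PrespectralSpace X]
    [QuasiSeparatedSpace X] {s : Set X} (hs : @IsClopen X (constructibleTopology X) s) :
    IsConstructible s := by
  have hb := @TopologicalSpace.isTopologicalBasis_of_subbasis X (constructibleTopology X)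
    (constructibleTopologySubbasis X) rfl
  have hbc : ∀ b ∈ (fun f => ⋂₀ f) '' {f | f.Finite ∧ f ⊆ constructibleTopologySubbasis X},
      IsConstructible b := by
    rintro _ ⟨f, ⟨hf, hfs⟩, rfl⟩
    refine IsConstructible.sInter hf fun t ht => ?_
    rcases hfs ht with ⟨ho, hc⟩ | ⟨hcl, hc⟩
    · exact hc.isConstructible ho
    · simpa using (hc.isConstructible hcl.isOpen_compl).compl
  have hcomp : @IsCompact X (constructibleTopology X) s :=
    @IsClosed.isCompact X (constructibleTopology X) s compactSpace_con hs.1
  obtain ⟨T, hTb, rfl⟩ := @IsTopologicalBasis.open_eq_sUnion X (constructibleTopology X) _ hb _ hs.2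
  obtain ⟨T', hT', hT'f, hsub⟩ := @IsCompact.elim_finite_subcover_image X (Set X)
    (constructibleTopology X) _ T id hcomp
    (fun i hi => @IsTopologicalBasis.isOpen X (constructibleTopology X) i _ hb (hTb hi))
    (by rw [sUnion_eq_biUnion]; rfl)
  have : ⋃₀ T = ⋃₀ T' := by
    refine subset_antisymm (fun x hx => ?_) (sUnion_mono hT')
    simpa using hsub hx
  rw [this]
  exact IsConstructible.sUnion hT'f fun b hb' => hbc b (hTb (hT' hb'))

/-- Points in the closure of a constructibly closed set are specializations of points of the set. -/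
theorem exists_specializes_of_mem_closure [CompactSpace X] [QuasiSober X] [PrespectralSpace X]
    [QuasiSeparatedSpace X] {E : Set X} (hE : IsClosed[constructibleTopology X] E) {x : X}
    (hx : x ∈ closure E) : ∃ e ∈ E, e ⤳ x := by
  by_contra! H
  obtain ⟨t, ht⟩ := (show IsCompact (ofCon ⁻¹' E) from (isClosed_preimage_ofCon.2 hE).isCompact).elim_finite_subfamily_closed
    (fun U : {U : Set X // IsOpen U ∧ IsCompact U ∧ x ∈ U} => ofCon ⁻¹' (U : Set X))
    (fun U => (isClopen_preimage_ofCon U.2.1 U.2.2.1).1)
    (eq_empty_of_forall_notMem fun e he => H _ he.1 <| specializes_iff_forall_open.2 fun s hs hxs => by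
      obtain ⟨U, ⟨hUo, hUc⟩, hxU, hUs⟩ :=
        (PrespectralSpace.isTopologicalBasis (X := X)).exists_subset_of_mem_open hxs hs
      exact hUs (mem_iInter.1 he.2 ⟨U, hUo, hUc, hxU⟩))
  have ho : IsOpen (⋂ U ∈ t, (U : Set X)) := isOpen_biInter_finset fun U _ => U.2.1
  obtain ⟨z, hzU, hzE⟩ := mem_closure_iff.1 hx _ ho (mem_iInter₂.2 fun U _ => U.2.2.2)
  refine notMem_empty (WithTopology.toTopology (constructibleTopology X) z) ?_
  rw [← ht]
  exact ⟨hzE, mem_iInter₂.2 fun U hU => mem_iInter₂.1 hzU U hU⟩

theorem isClosed_of_isClosed_con [CompactSpace X] [QuasiSober X] [PrespectralSpace X]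
    [QuasiSeparatedSpace X] {E : Set X} (hE : IsClosed[constructibleTopology X] E)
    (h : StableUnderSpecialization E) : IsClosed E :=
  closure_subset_iff_isClosed.1 fun _ hx =>
    let ⟨_, he, hs⟩ := exists_specializes_of_mem_closure hE hx; h hs he

theorem isOpen_of_isOpen_con [CompactSpace X] [QuasiSober X] [PrespectralSpace X]
    [QuasiSeparatedSpace X] {E : Set X} (hE : IsOpen[constructibleTopology X] E)
    (h : StableUnderGeneralization E) : IsOpen E :=
  isClosed_compl_iff.1 <| isClosed_of_isClosed_con
    ((@isClosed_compl_iff X (constructibleTopology X) E).2 hE) h.compl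

/-- Criterion for being spectral: a continuous surjection from a compact space such that the preimages
of a subbasis are closed. -/
theorem spectralSpace_of_subbasis [T0Space X] {Z : Type*} [TopologicalSpace Z] [CompactSpace Z]
    (g : Z → X) (hg : Continuous g) (hs : Function.Surjective g) (B : Set (Set X))
    (hB : tX = generateFrom B) (hcl : ∀ U ∈ B, IsClosed (g ⁻¹' U)) :
    SpectralSpace X := by
  have hcpt : ∀ s : Set X, IsClosed (g ⁻¹' s) → IsCompact s := fun s h => by
    simpa [image_preimage_eq s hs] using h.isCompact.image hg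
  have hb := isTopologicalBasis_of_subbasis hB
  have hbcl : ∀ b ∈ (fun f => ⋂₀ f) '' {f | f.Finite ∧ f ⊆ B}, IsClosed (g ⁻¹' b) := by
    rintro _ ⟨f, ⟨_, hfs⟩, rfl⟩
    dsimp only
    rw [preimage_sInter]
    exact isClosed_biInter fun t ht => hcl t (hfs ht)
  have hps : PrespectralSpace X := .of_isTopologicalBasis hb fun b hb' => hcpt b (hbcl b hb')
  have hcs : CompactSpace X := ⟨hcpt univ (by simp)⟩
  have hco : ∀ U : Set X, IsOpen U → IsCompact U → IsClosed (g ⁻¹' U) := fun U hUo hUc => by
    obtain ⟨T, hTb, rfl⟩ := hb.open_eq_sUnion hUo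
    obtain ⟨T', hT', hT'f, hsub⟩ := hUc.elim_finite_subcover_image (b := T) (c := id)
      (fun i hi => hb.isOpen (hTb hi)) (by rw [sUnion_eq_biUnion]; rfl)
    have : ⋃₀ T = ⋃ i ∈ T', i :=
      subset_antisymm hsub (iUnion₂_subset fun i hi => subset_sUnion_of_mem (hT' hi))
    rw [this, preimage_iUnion₂]
    exact hT'f.isClosed_biUnion fun i hi => hbcl i (hTb (hT' hi))
  have hqs : QuasiSeparatedSpace X := ⟨fun U V hU hUc hV hVc =>
    hcpt _ (by simpa [preimage_inter] using (hco U hU hUc).inter (hco V hV hVc))⟩
  have hqso : QuasiSober X := by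
    refine ⟨fun {S} hS hSc => ?_⟩
    obtain ⟨z, hzS, hzU⟩ : (g ⁻¹' S ∩
        ⋂ b : {b : Set X // (IsOpen b ∧ IsCompact b) ∧ (S ∩ b).Nonempty}, g ⁻¹' b.1).Nonempty := by
      refine nonempty_iff_ne_empty.2 fun he => ?_
      obtain ⟨t, ht⟩ := (hSc.preimage hg).isCompact.elim_finite_subfamily_closed _
        (fun b => hco _ b.2.1.1 b.2.1.2) he
      classical
      obtain ⟨x, hxS, hx⟩ := isIrreducible_iff_sInter.1 hS (t.image Subtype.val)
        (by simp only [Finset.mem_image]; rintro _ ⟨b, _, rfl⟩; exact b.2.1.1)
        (by simp only [Finset.mem_image]; rintro _ ⟨b, _, rfl⟩; exact b.2.2)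
      obtain ⟨z, rfl⟩ := hs x
      refine notMem_empty z (ht ▸ ⟨hxS, mem_iInter₂.2 fun b hb => ?_⟩)
      exact mem_sInter.1 hx _ (Finset.mem_coe.2 (Finset.mem_image_of_mem _ hb))
    refine ⟨g z, subset_antisymm (hSc.closure_subset_iff.2 (singleton_subset_iff.2 hzS))
      fun x hx => mem_closure_iff.2 fun s hs' hxs => ?_⟩
    obtain ⟨U, hU, hxU, hUs⟩ :=
      (PrespectralSpace.isTopologicalBasis (X := X)).exists_subset_of_mem_open hxs hs'
    exact ⟨g z, hUs (mem_iInter.1 hzU ⟨U, hU, x, hx, hxU⟩), rfl⟩
  exact { }

/-- In the situation of `spectralSpace_of_subbasis`, the map is continuous for the constructible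
topology. -/
theorem continuous_con_of_subbasis [T0Space X] {Z : Type*} [TopologicalSpace Z] [CompactSpace Z]
    (g : Z → X) (B : Set (Set X)) (hB : tX = generateFrom B)
    (hcl : ∀ U ∈ B, IsClopen (g ⁻¹' U)) :
    Continuous[_, constructibleTopology X] g := by
  have hb := isTopologicalBasis_of_subbasis hB
  have key : ∀ U : Set X, IsOpen U → IsCompact U → IsClopen (g ⁻¹' U) := fun U hUo hUc => by
    obtain ⟨T, hTb, rfl⟩ := hb.open_eq_sUnion hUo
    obtain ⟨T', hT', hT'f, hsub⟩ := hUc.elim_finite_subcover_image (b := T) (c := id)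
      (fun i hi => hb.isOpen (hTb hi)) (by rw [sUnion_eq_biUnion]; rfl)
    have : ⋃₀ T = ⋃ i ∈ T', i :=
      subset_antisymm hsub (iUnion₂_subset fun i hi => subset_sUnion_of_mem (hT' hi))
    rw [this, preimage_iUnion₂]
    refine hT'f.isClopen_biUnion fun i hi => ?_
    obtain ⟨f, ⟨hf, hfs⟩, rfl⟩ := hTb (hT' hi)
    rw [preimage_sInter]
    exact hf.isClopen_biInter fun j hj => hcl j (hfs hj)
  refine continuous_generateFrom_iff.2 fun U hU => ?_
  rcases hU with ⟨ho, hc⟩ | ⟨hc1, hc2⟩
  · exact (key U ho hc).2
  · simpa using (key _ hc1.isOpen_compl hc2).compl.2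

/-- A spectral map is continuous for the constructible topologies. -/
theorem continuous_con_of_isSpectralMap {f : X → Y} (hf : IsSpectralMap f) :
    Continuous[constructibleTopology X, constructibleTopology Y] f := by
  refine continuous_generateFrom_iff.2 fun U hU => ?_
  rcases hU with ⟨ho, hc⟩ | ⟨ho, hc⟩
  · exact (hf.isCompact_preimage_of_isOpen ho hc).isOpen_constructibleTopology_of_isOpen
      (ho.preimage hf.continuous)
  · exact IsCompact.isOpen_constructibleTopology_of_isClosed
      (by simpa using hf.isCompact_preimage_of_isOpen ho.isOpen_compl hc) (ho.preimage hf.continuous)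

theorem isClosed_con_range [SpectralSpace X] [SpectralSpace Y] {f : X → Y} (hf : IsSpectralMap f)
    {E : Set X} (hE : IsClosed[constructibleTopology X] E) :
    IsClosed[constructibleTopology Y] (f '' E) :=
  @IsCompact.isClosed Y (constructibleTopology Y) t2_con _
    (@IsCompact.image X Y (constructibleTopology X) (constructibleTopology Y) E f
      (@IsClosed.isCompact X (constructibleTopology X) E compactSpace_con hE)
      (continuous_con_of_isSpectralMap hf))

theorem isSpectralMap_of_continuous_con [SpectralSpace X] {f : X → Y} (hf : Continuous f)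
    (hf' : Continuous[constructibleTopology X, constructibleTopology Y] f) : IsSpectralMap f := by
  refine ⟨hf, fun s hs hc => isCompact_of_isClosed_con ?_⟩
  exact @IsClosed.preimage X Y (constructibleTopology X) (constructibleTopology Y) f hf' s
    (isClopen_con_of_isOpen_isCompact hs hc).1

theorem compactOpens_subbasis [PrespectralSpace X] :
    tX = generateFrom {U : Set X | IsOpen U ∧ IsCompact U} :=
  (PrespectralSpace.isTopologicalBasis (X := X)).eq_generateFrom

/-- A constructibly closed subset of a spectral space is spectral. -/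
theorem spectralSpace_of_isClosed_con [SpectralSpace X] {E : Set X}
    (hE : IsClosed[constructibleTopology X] E) : SpectralSpace E := by
  have : CompactSpace (ofCon ⁻¹' E : Set _) :=
    isCompact_iff_compactSpace.1 (isClosed_preimage_ofCon.2 hE).isCompact
  refine spectralSpace_of_subbasis (X := E)
    (fun z : (ofCon ⁻¹' E : Set _) => (⟨ofCon z.1, z.2⟩ : E))
    ?_ ?_ ((Subtype.val ⁻¹' ·) '' {U : Set X | IsOpen U ∧ IsCompact U}) ?_ ?_
  · exact (continuous_ofCon.comp continuous_subtype_val).subtype_mk fun z => z.2
  · exact fun e => ⟨⟨WithTopology.toTopology _ e.1, e.2⟩, rfl⟩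
  · rw [← induced_generateFrom_eq, ← compactOpens_subbasis]; rfl
  · rintro _ ⟨U, ⟨ho, hc⟩, rfl⟩
    exact (isClopen_preimage_ofCon ho hc).1.preimage continuous_subtype_val

/-- The generalization of a compact set is an intersection of compact opens. -/
theorem generalization_eq_sInter [CompactSpace X] [PrespectralSpace X] {E : Set X}
    (hE : IsCompact E) :
    {x : X | ∃ e ∈ E, x ⤳ e} = ⋂₀ {U : Set X | IsOpen U ∧ IsCompact U ∧ E ⊆ U} := by
  ext x
  simp only [mem_ofPred_eq, mem_sInter, and_imp]
  refine ⟨fun ⟨e, he, hxe⟩ U hUo _ hEU => hxe.mem_open hUo (hEU he), fun hx => ?_⟩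
  by_contra! H
  have : ∀ e ∈ E, ∃ s : Set X, IsOpen s ∧ e ∈ s ∧ x ∉ s := fun e he => by
    simpa [specializes_iff_forall_open] using H e he
  choose! s hso hes hxs using this
  obtain ⟨W, hWc, hWo, hEW, hWs⟩ := PrespectralSpace.exists_isCompact_and_isOpen_between hE
    (isOpen_biUnion fun e he => hso e he) (fun e he => mem_biUnion he (hes e he))
  obtain ⟨e, he, hxe⟩ := mem_iUnion₂.1 (hWs (hx W hWo hWc hEW))
  exact hxs e he hxe

theorem isClosed_con_generalization [SpectralSpace X] {E : Set X} (hE : IsCompact E) :
    IsClosed[constructibleTopology X] {x : X | ∃ e ∈ E, x ⤳ e} := by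
  rw [generalization_eq_sInter hE]
  exact @isClosed_sInter X (constructibleTopology X) _ fun U hU =>
    (isClopen_con_of_isOpen_isCompact hU.1 hU.2.1).1

theorem spectralSpace_prod [SpectralSpace X] [SpectralSpace Y] : SpectralSpace (X × Y) := by
  refine spectralSpace_of_subbasis (X := X × Y)
    (fun z : WithConstructibleTopology X × WithConstructibleTopology Y =>
      (z.1.ofTopology, z.2.ofTopology))
    ?_ (fun p => ⟨(WithTopology.toTopology _ p.1, WithTopology.toTopology _ p.2), rfl⟩)
    ((Prod.fst ⁻¹' ·) '' {U : Set X | IsOpen U ∧ IsCompact U} ∪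
      (Prod.snd ⁻¹' ·) '' {U : Set Y | IsOpen U ∧ IsCompact U}) ?_ ?_
  · exact (continuous_ofCon.comp continuous_fst).prodMk (continuous_ofCon.comp continuous_snd)
  · rw [generateFrom_union, ← induced_generateFrom_eq, ← induced_generateFrom_eq,
      ← compactOpens_subbasis, ← compactOpens_subbasis]
    rfl
  · rintro _ (⟨U, ⟨ho, hc⟩, rfl⟩ | ⟨U, ⟨ho, hc⟩, rfl⟩)
    · exact (isClopen_preimage_ofCon ho hc).1.preimage continuous_fst
    · exact (isClopen_preimage_ofCon ho hc).1.preimage continuous_snd

end Groth.Agent.Spectral
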