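import Groth.Agent.Spectral.Basic
import Mathlib.Topology.Connected.Clopen

/-! Connected components and closed points of spectral spaces. -/

universe u

open Topology TopologicalSpace Set

namespace Groth.Agent.Spectral

variable {X : Type u} [TopologicalSpace X] [SpectralSpace X]

/-- Splitting a spectral space along a closed set meeting every point closure in a connected set. -/
theorem exists_split (Z : Set X) (hconn : ∀ x : X, IsConnected (Z ∩ closure {x}))
    (Z₁ Z₂ : Set X) (h₁ : IsClosed Z₁) (h₂ : IsClosed Z₂) (hdisj : Disjoint Z₁ Z₂) (hunion : Z₁ ∪ Z₂ = Z) :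
    ∃ X₁ X₂ : Set X, IsClosed X₁ ∧ IsClosed X₂ ∧ Disjoint X₁ X₂ ∧ X₁ ∪ X₂ = Set.univ ∧
      Z₁ = Z ∩ X₁ ∧ Z₂ = Z ∩ X₂ := by
  let G : Set X → Set X := fun W => {x | ∃ e ∈ W, x ⤳ e}
  have hex : ∀ x, ¬ (x ∈ G Z₁ ∧ x ∈ G Z₂) := by
    rintro x ⟨⟨e₁, he₁, hx₁⟩, ⟨e₂, he₂, hx₂⟩⟩
    have := (isPreconnected_closed_iff.mp (hconn x).isPreconnected) Z₁ Z₂ h₁ h₂
      (by rw [hunion]; exact inter_subset_left)
      ⟨e₁, ⟨hunion.le (Or.inl he₁), hx₁.mem_closure⟩, he₁⟩ ⟨e₂, ⟨hunion.le (Or.inr he₂), hx₂.mem_closure⟩, he₂⟩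
    obtain ⟨z, -, hz₁, hz₂⟩ := this
    exact hdisj.notMem_of_mem_left hz₁ hz₂
  have hall : ∀ x, x ∈ G Z₁ ∨ x ∈ G Z₂ := fun x => by
    obtain ⟨z, hzZ, hxz⟩ := (hconn x).nonempty
    rcases hunion.ge hzZ with h | h
    · exact Or.inl ⟨z, h, specializes_iff_mem_closure.mpr hxz⟩
    · exact Or.inr ⟨z, h, specializes_iff_mem_closure.mpr hxz⟩
  have hcl : ∀ W₁ W₂ : Set X, IsClosed W₁ → (∀ x, ¬ (x ∈ G W₁ ∧ x ∈ G W₂)) → (∀ x, x ∈ G W₁ ∨ x ∈ G W₂) →
      IsClosed (G W₁) := by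
    intro W₁ W₂ hW hex hall
    refine isClosed_of_isClosed_con (isClosed_con_generalization hW.isCompact) fun x x' hxx' hx => ?_
    rcases hall x' with h | ⟨e, he, he'⟩
    · exact h
    · exact absurd ⟨hx, ⟨e, he, hxx'.trans he'⟩⟩ (hex x)
  refine ⟨G Z₁, G Z₂, hcl Z₁ Z₂ h₁ hex hall, hcl Z₂ Z₁ h₂ (fun x h => hex x h.symm) (fun x => (hall x).symm),
    Set.disjoint_left.mpr fun x hx hx' => hex x ⟨hx, hx'⟩, eq_univ_of_forall hall, ?_, ?_⟩
  · ext z
    refine ⟨fun hz => ⟨hunion.le (Or.inl hz), z, hz, specializes_rfl⟩, fun ⟨hzZ, hz⟩ => ?_⟩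
    exact (hunion.ge hzZ).resolve_right fun h => hex z ⟨hz, z, h, specializes_rfl⟩
  · ext z
    refine ⟨fun hz => ⟨hunion.le (Or.inr hz), z, hz, specializes_rfl⟩, fun ⟨hzZ, hz⟩ => ?_⟩
    exact (hunion.ge hzZ).resolve_left fun h => hex z ⟨⟨z, h, specializes_rfl⟩, hz⟩

omit [SpectralSpace X] in
/-- Finitely many clopens suffice to cut an intersection of clopens out of a compact set. -/
theorem exists_isClopen_disjoint {x : X} {s : Set X} (hs : IsCompact s)
    (h : ∀ y ∈ s, ∃ W : Set X, IsClopen W ∧ x ∈ W ∧ y ∉ W) :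
    ∃ W : Set X, IsClopen W ∧ x ∈ W ∧ Disjoint s W := by
  choose W hW hxW hyW using h
  obtain ⟨t, ht⟩ := hs.elim_finite_subcover (fun y : s => (W y y.2)ᶜ) (fun y => (hW y y.2).compl.isOpen)
    (fun y hy => mem_iUnion.mpr ⟨⟨y, hy⟩, hyW y hy⟩)
  refine ⟨⋂ y ∈ t, W y y.2, isClopen_biInter_finset fun y _ => hW y y.2,
    mem_iInter₂.mpr fun y _ => hxW y y.2, Set.disjoint_left.mpr fun z hz hzW => ?_⟩
  obtain ⟨y, hy, hzy⟩ := mem_iUnion₂.mp (ht hz)
  exact hzy (mem_iInter₂.mp hzW y hy)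

/-- In a spectral space connected components are intersections of clopen subsets. -/
theorem mem_connectedComponent_iff (x y : X) :
    y ∈ connectedComponent x ↔ ∀ W : Set X, IsClopen W → x ∈ W → y ∈ W := by
  refine ⟨fun hy W hW hxW => hW.connectedComponent_subset hxW hy, fun hy => ?_⟩
  let Q := {z : X | ∀ W : Set X, IsClopen W → x ∈ W → z ∈ W}
  have hQc : IsClosed Q := by
    have : Q = ⋂ W ∈ {W : Set X | IsClopen W ∧ x ∈ W}, W := by ext; simp [Q]
    rw [this]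
    exact isClosed_biInter fun W hW => hW.1.isClosed
  suffices hQ : IsPreconnected Q from hQ.subset_connectedComponent (fun W _ h => h) hy
  rw [isPreconnected_closed_iff]
  intro a b ha hb hQab hQa hQb
  by_contra hne
  have hdisj : ∀ z ∈ Q, z ∈ a → z ∉ b := fun z hz hza hzb => hne ⟨z, hz, hza, hzb⟩
  -- quasi-compact opens cutting out the two pieces
  have hex : ∀ a b : Set X, IsClosed a → IsClosed b → Q ⊆ a ∪ b → (∀ z ∈ Q, z ∈ a → z ∉ b) →
      ∃ U : Set X, IsOpen U ∧ IsCompact U ∧ Q ∩ a ⊆ U ∧ Q ∩ b ⊆ Uᶜ := by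
    intro a b ha hb hQab hd
    obtain ⟨U, hUc, hUo, haU, hUb⟩ := PrespectralSpace.exists_isCompact_and_isOpen_between
      (hQc.inter ha).isCompact hb.isOpen_compl (fun z hz => hd z hz.1 hz.2)
    exact ⟨U, hUo, hUc, haU, fun z hz hzU => hUb hzU hz.2⟩
  obtain ⟨U, hUo, hUc, haU, hbU⟩ := hex a b ha hb hQab hdisj
  obtain ⟨V, hVo, hVc, hbV, haV⟩ := hex b a hb ha (by rwa [union_comm]) (fun z hz hzb hza => hdisj z hz hza hzb)
  obtain ⟨W₁, hW₁, hxW₁, hd₁⟩ := exists_isClopen_disjoint (x := x) (hUc.inter_of_isOpen hVc hUo hVo) fun z hz => by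
    by_contra hno
    push Not at hno
    rcases hQab (show z ∈ Q from hno) with h | h
    · exact haV ⟨hno, h⟩ hz.2
    · exact hbU ⟨hno, h⟩ hz.1
  obtain ⟨W₂, hW₂, hxW₂, hd₂⟩ := exists_isClopen_disjoint (x := x) (hUo.union hVo).isClosed_compl.isCompact fun z hz => by
    by_contra hno
    push Not at hno
    rcases hQab (show z ∈ Q from hno) with h | h
    · exact hz (Or.inl (haU ⟨hno, h⟩))
    · exact hz (Or.inr (hbV ⟨hno, h⟩))
  have hclU : IsClopen (W₁ ∩ W₂ ∩ U) := by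
    refine ⟨?_, (hW₁.isOpen.inter hW₂.isOpen).inter hUo⟩
    have : W₁ ∩ W₂ ∩ U = W₁ ∩ W₂ ∩ Vᶜ := by
      ext z
      refine ⟨fun ⟨hW, hz⟩ => ⟨hW, fun hzV => hd₁.notMem_of_mem_left ⟨hz, hzV⟩ hW.1⟩, fun ⟨hW, hz⟩ => ⟨hW, ?_⟩⟩
      by_contra hzU
      exact hd₂.notMem_of_mem_left (fun h => h.elim hzU hz) hW.2
    rw [this]
    exact (hW₁.isClosed.inter hW₂.isClosed).inter hVo.isClosed_compl
  obtain ⟨za, hza, hzaa⟩ := hQa
  obtain ⟨zb, hzb, hzbb⟩ := hQb
  by_cases hx : x ∈ U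
  · exact hbU ⟨hzb, hzbb⟩ (hzb _ hclU ⟨⟨hxW₁, hxW₂⟩, hx⟩).2
  · have : za ∈ (W₁ ∩ W₂ ∩ U)ᶜ := hza _ hclU.compl fun h => hx h.2
    exact this ⟨⟨hza _ hW₁ hxW₁, hza _ hW₂ hxW₂⟩, haU ⟨hza, hzaa⟩⟩

lemma exists_closedPoint_specializes (x : X) : ∃ z : X, IsClosed ({z} : Set X) ∧ x ⤳ z := by
  obtain ⟨z, hz, hzc⟩ := (isClosed_closure (s := ({x} : Set X))).exists_closed_singleton (by simp)
  exact ⟨z, hzc, specializes_iff_mem_closure.mpr hz⟩

omit [SpectralSpace X] in
lemma mk_eq_of_specializes {x y : X} (h : x ⤳ y) :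
    _root_.ConnectedComponents.mk x = _root_.ConnectedComponents.mk y := by
  refine _root_.ConnectedComponents.coe_eq_coe'.mpr ?_
  exact isIrreducible_singleton.closure.isConnected.isPreconnected.subset_connectedComponent
    (h.mem_closure) (subset_closure rfl)

theorem surjective_closedPoints :
    Function.Surjective (fun x : {x : X // IsClosed ({x} : Set X)} => _root_.ConnectedComponents.mk x.1) := by
  intro c
  obtain ⟨x, rfl⟩ := _root_.ConnectedComponents.surjective_coe c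
  obtain ⟨z, hz, hxz⟩ := exists_closedPoint_specializes x
  exact ⟨⟨z, hz⟩, (mk_eq_of_specializes hxz).symm⟩

theorem bijective_of_unique_closedPoint (h0 : IsClosed {x : X | IsClosed ({x} : Set X)})
    (huniq : ∀ x : X, ∃! z : X, IsClosed ({z} : Set X) ∧ x ⤳ z) :
    Function.Bijective (fun x : {x : X // IsClosed ({x} : Set X)} => _root_.ConnectedComponents.mk x.1) := by
  refine ⟨fun z z' hzz' => ?_, surjective_closedPoints⟩
  by_contra hne
  have hne' : (z : X) ∉ ({(z' : X)} : Set X) := fun h => hne (Subtype.ext h)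
  set X₀ := {x : X | IsClosed ({x} : Set X)}
  -- a clopen piece of the closed points
  obtain ⟨U, ⟨hUo, hUc⟩, hzU, hUz'⟩ := (PrespectralSpace.isTopologicalBasis (X := X)).exists_subset_of_mem_open
    (Set.mem_compl hne') z'.2.isOpen_compl
  have h₁ : IsClosed (X₀ ∩ U) := by
    refine isClosed_of_isClosed_con ?_ ?_
    · exact @IsClosed.inter X _ _ (constructibleTopology X) (isClosed_con_of_isClosed h0)
        (isClopen_con_of_isOpen_isCompact hUo hUc).1
    · intro x y hxy hx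
      rw [show y = x from (hx.1 : IsClosed ({x} : Set X)).closure_eq.le hxy.mem_closure]
      exact hx
  have h₂ : IsClosed (X₀ ∩ Uᶜ) := h0.inter hUo.isClosed_compl
  have hconn : ∀ x : X, IsConnected (X₀ ∩ closure {x}) := fun x => by
    obtain ⟨w, ⟨hwc, hxw⟩, hu⟩ := huniq x
    have : X₀ ∩ closure {x} = {w} := by
      refine Set.eq_singleton_iff_unique_mem.mpr ⟨⟨hwc, hxw.mem_closure⟩, fun y hy => ?_⟩
      exact hu y ⟨hy.1, specializes_iff_mem_closure.mpr hy.2⟩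
    rw [this]
    exact isConnected_singleton
  obtain ⟨X₁, X₂, hX₁, hX₂, hd, hu, e₁, e₂⟩ := exists_split X₀ hconn _ _ h₁ h₂
    (Set.disjoint_left.mpr fun w h h' => h'.2 h.2) (by rw [← Set.inter_union_distrib_left, union_compl_self, inter_univ])
  have hX₁o : IsClopen X₁ := by
    refine ⟨hX₁, ?_⟩
    rw [show X₁ = X₂ᶜ from (IsCompl.compl_eq ⟨hd.symm, by rw [codisjoint_iff, sup_comm]; exact hu⟩).symm]
    exact hX₂.isOpen_compl
  have hz₁ : (z : X) ∈ X₁ := (e₁.le ⟨z.2, hzU⟩).2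
  have hz₂ : (z' : X) ∈ X₁ := by
    refine hX₁o.connectedComponent_subset hz₁ ?_
    exact _root_.ConnectedComponents.coe_eq_coe'.mp hzz'.symm
  exact (fun h => hUz' h rfl) (e₁.ge ⟨z'.2, hz₂⟩).2

theorem refinement_iff_bijective :
    (∀ (ι : Type u) (U : ι → Set X), (∀ i, IsOpen (U i)) → (⋃ i, U i) = Set.univ →
      ∃ (n : ℕ) (V : Fin n → Set X), (∀ k, IsClopen (V k)) ∧
        Pairwise (fun k l => Disjoint (V k) (V l)) ∧ (⋃ k, V k) = Set.univ ∧ ∀ k, ∃ i, V k ⊆ U i) ↔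
    Function.Bijective (fun x : {x : X // IsClosed ({x} : Set X)} => _root_.ConnectedComponents.mk x.1) := by
  constructor
  · intro h
    refine ⟨fun z z' hzz' => ?_, surjective_closedPoints⟩
    by_contra hne
    obtain ⟨n, V, hV, -, hcov, hsub⟩ := h (ULift.{u} Bool) (fun i => bif i.down then {(z : X)}ᶜ else {(z' : X)}ᶜ)
      (by rintro ⟨_ | _⟩ <;> simp [z.2.isOpen_compl, z'.2.isOpen_compl])
      (eq_univ_of_forall fun w => by
        by_cases hw : w = (z : X)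
        · exact mem_iUnion.mpr ⟨⟨false⟩, fun h : w = (z' : X) => hne (Subtype.ext (hw.symm.trans h))⟩
        · exact mem_iUnion.mpr ⟨⟨true⟩, hw⟩)
    obtain ⟨k, hk⟩ := mem_iUnion.mp (hcov.ge (mem_univ (z : X)))
    have hk' : (z' : X) ∈ V k :=
      (hV k).connectedComponent_subset hk (_root_.ConnectedComponents.coe_eq_coe'.mp hzz'.symm)
    obtain ⟨⟨_ | _⟩, hi⟩ := hsub k
    · exact hi hk' rfl
    · exact hi hk rfl
  · intro h ι U hU hcov
    classical
    have hloc : ∀ x : X, ∃ W : Set X, IsClopen W ∧ x ∈ W ∧ ∃ i, W ⊆ U i := by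
      intro x
      obtain ⟨z, hz⟩ := h.2 (_root_.ConnectedComponents.mk x)
      obtain ⟨i, hi⟩ := mem_iUnion.mp (hcov.ge (mem_univ (z : X)))
      obtain ⟨W, hW, hxW, hd⟩ := exists_isClopen_disjoint (x := x) (hU i).isClosed_compl.isCompact fun y hy => by
        by_contra hno
        push Not at hno
        obtain ⟨w, hwc, hyw⟩ := exists_closedPoint_specializes y
        have hxy := _root_.ConnectedComponents.coe_eq_coe'.mpr ((mem_connectedComponent_iff x y).mpr hno)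
        have : (⟨w, hwc⟩ : {x : X // IsClosed ({x} : Set X)}) = z :=
          h.1 (((mk_eq_of_specializes hyw).symm.trans hxy).trans hz.symm)
        exact hy (hyw.mem_open (hU i) (by rw [← congrArg Subtype.val this] at hi; exact hi))
      exact ⟨W, hW, hxW, i, fun w hw => not_not.mp fun hwU => hd.notMem_of_mem_left hwU hw⟩
    choose W hW hxW hWU using hloc
    obtain ⟨t, ht⟩ := isCompact_univ.elim_finite_subcover W (fun x => (hW x).isOpen)
      (fun x _ => mem_iUnion.mpr ⟨x, hxW x⟩)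
    let e := t.equivFin.symm
    let V : Fin t.card → Set X := fun k => W (e k) \ ⋃ l ∈ Finset.univ.filter (· < k), W (e l)
    refine ⟨t.card, V, fun k => (hW _).diff (isClopen_biUnion_finset fun l _ => hW _), ?_, ?_, fun k => ?_⟩
    · intro k l hkl
      wlog hlt : l < k generalizing k l
      · exact (this hkl.symm (lt_of_le_of_ne (not_lt.mp hlt) hkl)).symm
      exact Set.disjoint_left.mpr fun w hwk hwl => hwk.2 (mem_biUnion (by simpa using hlt) hwl.1)
    · refine eq_univ_of_forall fun w => ?_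
      have hne : (Finset.univ.filter fun k : Fin t.card => w ∈ W (e k)).Nonempty := by
        obtain ⟨x, hx, hwx⟩ := mem_iUnion₂.mp (ht (mem_univ w))
        exact ⟨e.symm ⟨x, hx⟩, by simp [hwx]⟩
      let k := (Finset.univ.filter fun k : Fin t.card => w ∈ W (e k)).min' hne
      refine mem_iUnion.mpr ⟨k, (Finset.mem_filter.mp (Finset.min'_mem _ hne)).2, fun hw => ?_⟩
      obtain ⟨l, hl, hwl⟩ := mem_iUnion₂.mp hw
      exact absurd (Finset.mem_filter.mp hl).2 (not_lt.mpr (Finset.min'_le _ l (by simp [hwl])))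
    · obtain ⟨i, hi⟩ := hWU (e k)
      exact ⟨i, sdiff_subset.trans hi⟩

end Groth.Agent.Spectral
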