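import Groth.Agent.Spectral.Basic
import Mathlib.Topology.Category.TopCat.Limits.Konig
import Mathlib.Topology.Category.TopCat.Limits.Cofiltered

/-!
# Limits of spectral spaces along spectral maps
-/

set_option autoImplicit false
universe u

open Topology TopologicalSpace Set CategoryTheory Limits

namespace Groth.Agent.Spectral

instance t2Space_withCon {X : Type u} [TopologicalSpace X] [T0Space X] [PrespectralSpace X] :
    T2Space (WithConstructibleTopology X) :=
  @T2Space.mk (WithConstructibleTopology X) _ fun x y hxy => by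
    obtain ⟨U, V, hU, hV, hx, hy, hd⟩ := @T2Space.t2 X (constructibleTopology X) t2_con
      (ofCon x) (ofCon y) ((WithTopology.ofTopology_injective _).ne hxy)
    exact ⟨ofCon ⁻¹' U, ofCon ⁻¹' V, isOpen_preimage_ofCon.2 hU, isOpen_preimage_ofCon.2 hV, hx, hy,
      hd.preimage _⟩

theorem continuous_withCon_map {X Y : Type u} [TopologicalSpace X] [TopologicalSpace Y]
    {f : X → Y} (hf : IsSpectralMap f) :
    Continuous (fun x : WithConstructibleTopology X =>
      WithTopology.toTopology (constructibleTopology Y) (f (ofCon x))) :=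
  @Continuous.comp (WithConstructibleTopology X) Y (WithConstructibleTopology Y) _
    (constructibleTopology Y) _ _ _ (WithTopology.continuous_toTopology _)
    (@Continuous.comp (WithConstructibleTopology X) X Y _ (constructibleTopology X)
      (constructibleTopology Y) _ _ (continuous_con_of_isSpectralMap hf)
      (WithTopology.continuous_ofTopology _))

variable {J : Type u} [SmallCategory J] {F : J ⥤ TopCat.{u}} {c : Cone F}

theorem cone_w (c : Cone F) {i j : J} (a : i ⟶ j) (x : c.pt) :
    F.map a (c.π.app i x) = c.π.app j x := by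
  rw [← c.w a]
  rfl

theorem exists_of_compatible (hc : IsLimit c) (u : ∀ j, F.obj j)
    (hu : ∀ {i j : J} (a : i ⟶ j), F.map a (u i) = u j) : ∃ x : c.pt, ∀ j, c.π.app j x = u j := by
  let p : Cone F :=
    { pt := TopCat.of PUnit.{u + 1}
      π := { app := fun j => TopCat.ofHom ⟨fun _ => u j, continuous_const⟩
             naturality := fun i j a => by ext; exact (hu a).symm } }
  exact ⟨hc.lift p PUnit.unit, fun j => ConcreteCategory.congr_hom (hc.fac p j) PUnit.unit⟩

theorem ext_of_proj (hc : IsLimit c) {x y : c.pt} (h : ∀ j, c.π.app j x = c.π.app j y) : x = y := by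
  have := hc.hom_ext (f := TopCat.ofHom ⟨fun _ : PUnit.{u + 1} => x, continuous_const⟩)
    (f' := TopCat.ofHom ⟨fun _ : PUnit.{u + 1} => y, continuous_const⟩)
    (fun j => by ext; exact h j)
  exact ConcreteCategory.congr_hom this PUnit.unit

theorem t0Space_limit (hc : IsLimit c) (h : ∀ j, T0Space (F.obj j)) : T0Space c.pt :=
  t0Space_of_injective_of_continuous (f := fun (x : c.pt) j => c.π.app j x)
    (fun _ _ hxy => ext_of_proj hc fun j => congrFun hxy j)
    (continuous_pi fun j => (c.π.app j).hom.continuous)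

/-- The standard subbasis of a limit of spectral spaces. -/
def limitSubbasis (c : Cone F) : Set (Set c.pt) :=
  ⋃ j, (c.π.app j ⁻¹' ·) '' {U : Set (F.obj j) | IsOpen U ∧ IsCompact U}

theorem limit_eq_generateFrom (hc : IsLimit c) (hF : ∀ j, SpectralSpace (F.obj j)) :
    c.pt.str = generateFrom (limitSubbasis c) := by
  rw [TopCat.induced_of_isLimit c hc, limitSubbasis, generateFrom_iUnion]
  refine iInf_congr fun j => ?_
  rw [← induced_generateFrom_eq]
  exact congrArg _ (compactOpens_subbasis (X := F.obj j))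

/-- Compatible families in the constructible topologies. -/
abbrev ConSections (c : Cone F) : Type u :=
  {u : ∀ j, WithConstructibleTopology (F.obj j) //
    ∀ {i j : J} (a : i ⟶ j), F.map a (ofCon (u i)) = ofCon (u j)}

theorem compactSpace_conSections (hF : ∀ j, SpectralSpace (F.obj j))
    (hFm : ∀ {i j : J} (a : i ⟶ j), IsSpectralMap (F.map a : F.obj i → F.obj j)) :
    CompactSpace (ConSections c) := by
  have : ∀ j, SpectralSpace (F.obj j) := hF
  refine isCompact_iff_compactSpace.1 (IsClosed.isCompact ?_)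
  show IsClosed {u : ∀ j, WithConstructibleTopology (F.obj j) |
    ∀ {i j : J} (a : i ⟶ j), F.map a (ofCon (u i)) = ofCon (u j)}
  simp only [ofPred_forall]
  refine isClosed_iInter fun i => isClosed_iInter fun j => isClosed_iInter fun a => ?_
  have h1 : Continuous fun u : ∀ j, WithConstructibleTopology (F.obj j) =>
      WithTopology.toTopology (constructibleTopology (F.obj j)) (F.map a (ofCon (u i))) :=
    (continuous_withCon_map (hFm a)).comp (continuous_apply i)
  have h2 : Continuous fun u : ∀ j, WithConstructibleTopology (F.obj j) => u j := continuous_apply j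
  convert isClosed_eq h1 h2 using 1
  ext u
  exact ⟨fun h => WithTopology.ofTopology_injective _ (by simpa using h),
    fun h => congrArg ofCon h⟩

theorem exists_conMap (hc : IsLimit c) (hF : ∀ j, SpectralSpace (F.obj j)) :
    ∃ g : ConSections c → c.pt, (∀ u j, c.π.app j (g u) = ofCon (u.1 j)) ∧ Continuous g ∧
      Function.Surjective g := by
  choose g hg using fun u : ConSections c => exists_of_compatible hc (fun j => ofCon (u.1 j)) u.2
  refine ⟨g, hg, ?_, fun x => ⟨⟨fun j => WithTopology.toTopology _ (c.π.app j x),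
    fun a => cone_w c a x⟩, ext_of_proj hc fun j => hg _ j⟩⟩
  have : ∀ j, SpectralSpace (F.obj j) := hF
  rw [TopCat.induced_of_isLimit c hc]
  refine continuous_iInf_rng.2 fun j => continuous_induced_rng.2 ?_
  have : (c.π.app j : c.pt → F.obj j) ∘ g = fun u => ofCon (u.1 j) := funext fun u => hg u j
  rw [this]
  exact continuous_ofCon.comp ((continuous_apply j).comp continuous_subtype_val)

theorem spectralSpace_limit (hc : IsLimit c) (hF : ∀ j, SpectralSpace (F.obj j))
    (hFm : ∀ {i j : J} (a : i ⟶ j), IsSpectralMap (F.map a : F.obj i → F.obj j)) :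
    SpectralSpace c.pt := by
  have : ∀ j, SpectralSpace (F.obj j) := hF
  obtain ⟨g, hg, hgc, hgs⟩ := exists_conMap hc hF
  have := compactSpace_conSections (c := c) hF hFm
  have := t0Space_limit hc fun j => inferInstance
  refine spectralSpace_of_subbasis g hgc hgs (limitSubbasis c) (limit_eq_generateFrom hc hF) ?_
  simp only [limitSubbasis, mem_iUnion]
  rintro _ ⟨j, U, ⟨ho, hcU⟩, rfl⟩
  have : g ⁻¹' (c.π.app j ⁻¹' U) = (fun u : ConSections c => u.1 j) ⁻¹' (ofCon ⁻¹' U) := by
    ext u; simp [hg]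
  rw [this]
  exact (isClopen_preimage_ofCon ho hcU).1.preimage ((continuous_apply j).comp continuous_subtype_val)

theorem isSpectralMap_proj (hc : IsLimit c) (hF : ∀ j, SpectralSpace (F.obj j))
    (hFm : ∀ {i j : J} (a : i ⟶ j), IsSpectralMap (F.map a : F.obj i → F.obj j)) (j : J) :
    IsSpectralMap (c.π.app j : c.pt → F.obj j) := by
  have : ∀ j, SpectralSpace (F.obj j) := hF
  obtain ⟨g, hg, hgc, hgs⟩ := exists_conMap hc hF
  have := compactSpace_conSections (c := c) hF hFm
  refine ⟨(c.π.app j).hom.continuous, fun U ho hcU => ?_⟩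
  have h : IsClosed (g ⁻¹' (c.π.app j ⁻¹' U)) := by
    have : g ⁻¹' (c.π.app j ⁻¹' U) = (fun u : ConSections c => u.1 j) ⁻¹' (ofCon ⁻¹' U) := by
      ext u; simp [hg]
    rw [this]
    exact (isClopen_preimage_ofCon ho hcU).1.preimage
      ((continuous_apply j).comp continuous_subtype_val)
  simpa [image_preimage_eq _ hgs] using h.isCompact.image hgc

theorem isCompact_limit_closed (hc : IsLimit c) (hF : ∀ j, SpectralSpace (F.obj j))
    (hFm : ∀ {i j : J} (a : i ⟶ j), IsSpectralMap (F.map a : F.obj i → F.obj j))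
    (Z : ∀ j, Set (F.obj j)) (hZ : ∀ j, IsClosed[constructibleTopology (F.obj j)] (Z j)) :
    IsCompact {x : c.pt | ∀ j, c.π.app j x ∈ Z j} := by
  obtain ⟨g, hg, hgc, hgs⟩ := exists_conMap hc hF
  have := compactSpace_conSections (c := c) hF hFm
  have heq : g ⁻¹' {x : c.pt | ∀ j, c.π.app j x ∈ Z j} =
      ⋂ j, (fun u : ConSections c => u.1 j) ⁻¹' (ofCon ⁻¹' Z j) := by
    ext u; simp [hg]
  have h : IsClosed (g ⁻¹' {x : c.pt | ∀ j, c.π.app j x ∈ Z j}) := by
    rw [heq]
    exact isClosed_iInter fun j => (isClosed_preimage_ofCon.2 (hZ j)).preimage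
      ((continuous_apply j).comp continuous_subtype_val)
  rw [← image_preimage_eq {x : c.pt | ∀ j, c.π.app j x ∈ Z j} hgs]
  exact h.isCompact.image hgc

variable [IsCofiltered J]

theorem nonempty_limit_closed (hc : IsLimit c) (hF : ∀ j, SpectralSpace (F.obj j))
    (hFm : ∀ {i j : J} (a : i ⟶ j), IsSpectralMap (F.map a : F.obj i → F.obj j))
    (Z : ∀ j, Set (F.obj j)) (hne : ∀ j, (Z j).Nonempty)
    (hZ : ∀ j, IsClosed[constructibleTopology (F.obj j)] (Z j))
    (hm : ∀ {i j : J} (a : i ⟶ j), MapsTo (F.map a) (Z i) (Z j)) :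
    ∃ x : c.pt, ∀ j, c.π.app j x ∈ Z j := by
  have : ∀ j, SpectralSpace (F.obj j) := hF
  let G : J ⥤ TopCat.{u} :=
    { obj := fun j => TopCat.of {x : WithConstructibleTopology (F.obj j) // ofCon x ∈ Z j}
      map := fun {i j} a => TopCat.ofHom
        ⟨fun x => ⟨WithTopology.toTopology _ (F.map a (ofCon x.1)), hm a x.2⟩,
          ((continuous_withCon_map (hFm a)).comp continuous_subtype_val).subtype_mk _⟩
      map_id := fun j => by ext x; simp
      map_comp := fun a b => by ext x; simp }
  have : ∀ j, Nonempty (G.obj j) := fun j =>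
    let ⟨z, hz⟩ := hne j; ⟨⟨WithTopology.toTopology _ z, hz⟩⟩
  have : ∀ j, CompactSpace (G.obj j) := fun j =>
    isCompact_iff_compactSpace.1
      (show IsClosed (ofCon ⁻¹' Z j) from isClosed_preimage_ofCon.2 (hZ j)).isCompact
  have : ∀ j, T2Space (G.obj j) := fun j => inferInstanceAs (T2Space {x // ofCon x ∈ Z j})
  obtain ⟨s⟩ := TopCat.nonempty_limitCone_of_compact_t2_cofiltered_system.{u, u} G
  obtain ⟨x, hx⟩ := exists_of_compatible hc (fun j => ofCon (s.1 j).1) fun {i j} a => by
    have := congrArg (fun z => ofCon z.1) (s.2 a)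
    simp [G] at this
    exact congrArg ofCon this
  exact ⟨x, fun j => by rw [hx]; exact (s.1 j).2⟩

theorem exists_preimage_eq_empty (hc : IsLimit c) (hF : ∀ j, SpectralSpace (F.obj j))
    (hFm : ∀ {i j : J} (a : i ⟶ j), IsSpectralMap (F.map a : F.obj i → F.obj j))
    (i : J) (E : Set (F.obj i)) (hE : IsClosed[constructibleTopology (F.obj i)] E)
    (h : c.π.app i ⁻¹' E = ∅) : ∃ (j : J) (a : j ⟶ i), F.map a ⁻¹' E = ∅ := by
  by_contra! H
  have : ∀ j, SpectralSpace (F.obj j) := hF
  refine Exists.elim (nonempty_limit_closed hc hF hFm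
    (fun k => {z | ∀ a : k ⟶ i, F.map a z ∈ E}) ?_ ?_ ?_) fun x hx => ?_
  · intro k
    classical
    have hfin : ∀ t : Finset (k ⟶ i), ∃ (l : J) (b : l ⟶ k) (a₀ : l ⟶ i), ∀ a ∈ t, b ≫ a = a₀ := by
      intro t
      induction t using Finset.induction_on with
      | empty => exact ⟨_, IsCofiltered.minToLeft k i, IsCofiltered.minToRight k i, by simp⟩
      | insert a t _ ih =>
        obtain ⟨l, b, a₀, h₀⟩ := ih
        refine ⟨_, IsCofiltered.eqHom (b ≫ a) a₀ ≫ b, IsCofiltered.eqHom (b ≫ a) a₀ ≫ a₀, ?_⟩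
        intro a' ha'
        rcases Finset.mem_insert.1 ha' with rfl | h'
        · simp only [Category.assoc]; exact IsCofiltered.eq_condition _ _
        · simp only [Category.assoc, h₀ a' h']
    by_contra hne
    obtain ⟨t, ht⟩ := (isCompact_univ (X := WithConstructibleTopology (F.obj k))).elim_finite_subfamily_closed
      (fun a : k ⟶ i => ofCon ⁻¹' (F.map a ⁻¹' E))
      (fun a => isClosed_preimage_ofCon.2 (@IsClosed.preimage _ _ (constructibleTopology (F.obj k))
        (constructibleTopology (F.obj i)) _ (continuous_con_of_isSpectralMap (hFm a)) _ hE))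
      (eq_empty_of_forall_notMem fun z hz => hne ⟨ofCon z, fun a => mem_iInter.1 hz.2 a⟩)
    obtain ⟨l, b, a₀, h₀⟩ := hfin t
    obtain ⟨z, hz⟩ := H l a₀
    refine notMem_empty (WithTopology.toTopology (constructibleTopology (F.obj k)) (F.map b z)) ?_
    rw [← ht]
    refine ⟨trivial, mem_iInter₂.2 fun a ha => ?_⟩
    show F.map a (F.map b z) ∈ E
    simpa [← h₀ a ha] using hz
  · intro k
    simp only [ofPred_forall]
    exact @isClosed_iInter (F.obj k) (k ⟶ i) (constructibleTopology (F.obj k)) _ fun a =>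
      @IsClosed.preimage _ _ (constructibleTopology (F.obj k)) (constructibleTopology (F.obj i)) _
        (continuous_con_of_isSpectralMap (hFm a)) _ hE
  · intro k l b z hz a
    have := hz (b ≫ a)
    simpa using this
  · have := hx i (𝟙 i)
    simp only [CategoryTheory.Functor.map_id] at this
    exact notMem_empty x (h ▸ this)

theorem preimage_subset_iff (hc : IsLimit c) (hF : ∀ j, SpectralSpace (F.obj j))
    (hFm : ∀ {i j : J} (a : i ⟶ j), IsSpectralMap (F.map a : F.obj i → F.obj j))
    (i : J) (E G : Set (F.obj i)) (hE : IsClosed[constructibleTopology (F.obj i)] E)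
    (hG : IsOpen[constructibleTopology (F.obj i)] G) :
    (c.π.app i ⁻¹' E ⊆ c.π.app i ⁻¹' G) ↔
      ∃ (j : J) (a : j ⟶ i), F.map a ⁻¹' E ⊆ F.map a ⁻¹' G := by
  refine ⟨fun h => ?_, fun ⟨j, a, h⟩ x hx => ?_⟩
  · obtain ⟨j, a, ha⟩ := exists_preimage_eq_empty hc hF hFm i (E ∩ Gᶜ)
      (@IsClosed.inter (F.obj i) E Gᶜ (constructibleTopology (F.obj i)) hE
        ((@isClosed_compl_iff (F.obj i) (constructibleTopology (F.obj i)) G).2 hG))
      (eq_empty_of_forall_notMem fun x hx => hx.2 (h hx.1))
    exact ⟨j, a, fun x hx => by_contra fun hxg => notMem_empty x (ha ▸ ⟨hx, hxg⟩)⟩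
  · have : F.map a (c.π.app j x) = c.π.app i x := cone_w c a x
    have := @h (c.π.app j x) (by simpa [this] using hx)
    simpa [cone_w c a x] using this

omit [IsCofiltered J] in
theorem preimage_hom_eq {i j : J} (a : i ⟶ j) (c : Cone F) (U : Set (F.obj j)) :
    c.π.app i ⁻¹' (F.map a ⁻¹' U) = c.π.app j ⁻¹' U := by
  ext x
  simp [cone_w c a x]

theorem exists_isCompact_isOpen_preimage_eq (hc : IsLimit c) (hF : ∀ j, SpectralSpace (F.obj j))
    (hFm : ∀ {i j : J} (a : i ⟶ j), IsSpectralMap (F.map a : F.obj i → F.obj j))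
    (U : Set c.pt) (hU : IsOpen U) (hUc : IsCompact U) :
    ∃ (i : J) (Ui : Set (F.obj i)), IsOpen Ui ∧ IsCompact Ui ∧ c.π.app i ⁻¹' Ui = U := by
  have : ∀ j, SpectralSpace (F.obj j) := hF
  have hb := TopCat.isTopologicalBasis_cofiltered_limit.{u, u} F c hc
    (fun j => {V : Set (F.obj j) | IsOpen V ∧ IsCompact V})
    (fun j => PrespectralSpace.isTopologicalBasis)
    (fun j => ⟨isOpen_univ, isCompact_univ⟩)
    (fun j U V hU hV => ⟨hU.1.inter hV.1, hU.2.inter_of_isOpen hV.2 hU.1 hV.1⟩)
    (fun i j f V hV => ⟨hV.1.preimage (hFm f).continuous, (hFm f).isCompact_preimage_of_isOpen hV.1 hV.2⟩)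
  obtain ⟨T, hT, rfl⟩ := hb.open_eq_sUnion hU
  obtain ⟨T', hT', hT'f, hsub⟩ := hUc.elim_finite_subcover_image (b := T) (c := id)
    (fun i hi => hb.isOpen (hT hi)) (by rw [sUnion_eq_biUnion]; rfl)
  choose k V hV hVeq using fun s : T' => hT (hT' s.2)
  have := hT'f.to_subtype
  classical
  haveI := Fintype.ofFinite T'
  obtain ⟨i, hi⟩ := IsCofiltered.inf_objs_exists (Finset.univ.image k)
  have a : ∀ s : T', i ⟶ k s := fun s => (hi (Finset.mem_image_of_mem k (Finset.mem_univ s))).some
  refine ⟨i, ⋃ s : T', F.map (a s) ⁻¹' V s,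
    isOpen_iUnion fun s => (hV s).1.preimage (hFm (a s)).continuous,
    isCompact_iUnion fun s => (hFm (a s)).isCompact_preimage_of_isOpen (hV s).1 (hV s).2, ?_⟩
  simp only [preimage_iUnion, preimage_hom_eq, ← hVeq]
  ext x
  simp only [mem_iUnion, Subtype.exists, exists_prop, mem_sUnion]
  exact ⟨fun ⟨s, hs, hxs⟩ => ⟨s, hT' hs, hxs⟩, fun ⟨s, hs, hxs⟩ => by
    simpa [mem_iUnion] using hsub ⟨s, hs, hxs⟩⟩

end Groth.Agent.Spectral
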